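import Cfsg.Agent.Lib.Cert.Sz8.M
import Cfsg.Agent.Lib.Cert.Sch2

set_option autoImplicit false
set_option maxRecDepth 100000

namespace Cfsg.Agent.Ct.Sz8s.S2

open Cfsg.Agent.PC

open Cfsg.Agent.Fi Cfsg.Agent.Ct
def W_t : TL := (TL.node (TL.node (TL.node (TL.node (TL.leaf []) (TL.leaf [nat_lit 3, nat_lit 1, nat_lit 1, nat_lit 4, nat_lit 0, nat_lit 0, nat_lit 2])) (TL.node (TL.leaf [nat_lit 3, nat_lit 4, nat_lit 0, nat_lit 4, nat_lit 3, nat_lit 0, nat_lit 0, nat_lit 3, nat_lit 1]) (TL.leaf [nat_lit 0, nat_lit 0, nat_lit 3, nat_lit 4, nat_lit 1, nat_lit 1, nat_lit 4]))) (TL.node (TL.node (TL.leaf [nat_lit 0, nat_lit 0, nat_lit 0, nat_lit 3, nat_lit 0, nat_lit 3, nat_lit 4, nat_lit 0, nat_lit 4, nat_lit 0]) (TL.leaf [nat_lit 3, nat_lit 1, nat_lit 1, nat_lit 4, nat_lit 1, nat_lit 4, nat_lit 2, nat_lit 1, nat_lit 4, nat_lit 2, nat_lit 0])) (TL.leaf [nat_lit 0, nat_lit 0, nat_lit 3, nat_lit 4, nat_lit 1, nat_lit 1, nat_lit 4]))) (TL.node (TL.node (TL.node (TL.leaf [nat_lit 2, nat_lit 4, nat_lit 0, nat_lit 2, nat_lit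 2, nat_lit 4, nat_lit 2, nat_lit 1, nat_lit 4, nat_lit 2, nat_lit 2]) (TL.leaf [nat_lit 2, nat_lit 2, nat_lit 4, nat_lit 0, nat_lit 4, nat_lit 1, nat_lit 4, nat_lit 1, nat_lit 4])) (TL.node (TL.leaf [nat_lit 1, nat_lit 4, nat_lit 3, nat_lit 4, nat_lit 0, nat_lit 0, nat_lit 3, nat_lit 1]) (TL.leaf [nat_lit 1, nat_lit 1, nat_lit 4, nat_lit 3, nat_lit 1, nat_lit 2, nat_lit 4, nat_lit 2]))) (TL.node (TL.node (TL.leaf [nat_lit 3, nat_lit 4, nat_lit 2, nat_lit 1, nat_lit 2, nat_lit 4, nat_lit 0, nat_lit 2, nat_lit 4]) (TL.leaf [nat_lit 2, nat_lit 1, nat_lit 4, nat_lit 3, nat_lit 1, nat_lit 1, nat_lit 4])) (TL.leaf [nat_lit 3, nat_lit 4, nat_lit 0, nat_lit 3, nat_lit 4, nat_lit 1, nat_lit 3, nat_lit 0]))))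
noncomputable def W (i : ℕ) : List ℕ := TL.get W_t i
def B : List ℕ := [nat_lit 0, nat_lit 2, nat_lit 1]
noncomputable def q (j : ℕ) : Sz8.P := ev Sz8.al (W j)
noncomputable def Q (j : ℕ) : ℕ → ℕ := trF Sz8.T (W j)
theorem md : Md Sz8.pt 65 B q Q 14 := (Sz8.md0).words' (by decide +kernel)
def I (i : ℕ) : ℕ := Nat.land (Nat.shiftRight (nat_lit 0x1605c180641a06c000000000000000000000000000000000000000000000000000000000000000000000000000000000000000000000000000000000000000000000000000000000000000000000000015000000000000000000000000000000000000000000000000000000000000000000000000000000000000000000000000000000000000000000000000000000000000000000000000000000000000001403c00000000000000000000000000000000000000000000000000000000000000000000000000000000000000000000000000000000000000000000000000000000000000000000000000000000000130380a000000000000000000000000000000000000000000000000000000000000000000000000000000000000000000000000000000000000000000000000000000000000000000000000000000000120340901800000000000000000000000000000000000000000000000000000000000000000000000000000000000000000000000000000000000000000000000000000000000000000000000000000011030080140300000000000000000000000000000000000000000000000000000000000000000000000000000000000000000000000000000000000000000000000000000000000000000000000000001002c0701002004000000000000000000000000000000000000000000000000000000000000000000000000000000000000000000000000000000000000000000000000000000000000000000000000000000000000000000)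 (Nat.mul (nat_lit 10) i)) (nat_lit 1023)
def Ru_t1 : TN := (TN.node (TN.node (TN.node (TN.node (TN.leaf (nat_lit 0)) (TN.leaf (nat_lit 0x46000000000046082))) (TN.node (TN.leaf (nat_lit 0x84000000000084082)) (TN.leaf (nat_lit 0x1c10831050000000001c4182)))) (TN.node (TN.node (TN.leaf (nat_lit 0x43000000000043082)) (TN.leaf (nat_lit 0x11460000000001460c2))) (TN.leaf (nat_lit 0x85000000000085082)))) (TN.node (TN.node (TN.node (TN.leaf (nat_lit 0x42000000000042082)) (TN.leaf (nat_lit 0xc60000000000c6082))) (TN.node (TN.leaf (nat_lit 0x2000000000104042)) (TN.leaf (nat_lit 0x1c10000000001c2082)))) (TN.node (TN.node (TN.leaf (nat_lit 798722)) (TN.leaf (nat_lit 0x70841460000000001c6142))) (TN.leaf (nat_lit 0x1083105000000000105142)))))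
def Ru_t2 : TN := (TN.node (TN.node (TN.node (TN.node (TN.leaf (nat_lit 266242)) (TN.leaf (nat_lit 0x86000000000086082))) (TN.node (TN.leaf (nat_lit 0xc40000000000c4082)) (TN.leaf (nat_lit 0x70430000000001c30c2)))) (TN.node (TN.node (TN.leaf (nat_lit 0x83000000000083082)) (TN.leaf (nat_lit 0x42000000000186082))) (TN.leaf (nat_lit 0xc50000000000c5082)))) (TN.node (TN.node (TN.node (TN.leaf (nat_lit 532482)) (TN.leaf (nat_lit 0x31060000000001060c2))) (TN.node (TN.leaf (nat_lit 0x45000000000045082)) (TN.leaf (nat_lit 0x70830000000001c10c2)))) (TN.node (TN.node (TN.leaf (nat_lit 0x44000000000044082)) (TN.leaf (nat_lit 0x70831060000000001c5142))) (TN.leaf (nat_lit 0x3000000000145042)))))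
def Ru_t : TN := (TN.node Ru_t1 Ru_t2)
noncomputable def Ru (i : ℕ) : ℕ := TN.get Ru_t i
def D_t1 : TN := (TN.node (TN.node (TN.node (TN.node (TN.leaf (nat_lit 0x20000000000000001)) (TN.leaf (nat_lit 0x100000000000000000000000000000000000000000000000000000000))) (TN.leaf (nat_lit 0x20000000000000000000000000000000000000000000000000000000700000000000000000000000000000011))) (TN.node (TN.leaf (nat_lit 0x600000000000000000000000000000000000000000000000000000000000000000000000000000000000000000000000000000000000000000000000000000009)) (TN.leaf (nat_lit 0x70000000100000000000000000000000000000000000000010000000000000000000000000000000100000000000000000000000000000000000000010000000000000019)))) (TN.node (TN.node (TN.leaf (nat_lit 0x10000000000000000000000000000000000000000000000000000000000000005)) (TN.leaf (nat_lit 0x20000000000000000000000000000000100000000000000000000000000000001000000010000000000000000000000000000000000000000000000000000000000000000000000000000000100000015))) (TN.node (TN.leaf (nat_lit 0x600000000000000000000000000000000000000000000000000000000000000000000000000000000000000000000000000000000000000000000000000000000000000000000000d))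 (TN.leaf (nat_lit 0x700000007000000000000000000000000000000020000000000000001000000010000000000000001000000000000000100000001000000010000000100000001000000010000000200000002000000010000000100000003000000000000000200000000000000010000001d)))))
def D_t2 : TN := (TN.node (TN.node (TN.node (TN.leaf (nat_lit 0x20000000000000000000000000000000000000003)) (TN.leaf (nat_lit 0x10000000100000000000000000000000000000000000000000000000000000000000000000000000000000000000000000000000000000000000000000000000000000013))) (TN.node (TN.leaf (nat_lit 0x6000000000000000000000000000000000000000000000000000000000000000000000000000000000000000000000000000000000000000000000000000000000000000b)) (TN.leaf (nat_lit 0x7000000000000000200000000000000000000000000000000000000000000000000000000000000000000000100000001000000010000000100000001000000000000000200000000000000000000000200000003000000010000000200000001000000010000001b)))) (TN.node (TN.node (TN.leaf (nat_lit 0x600000000000000000000000000000000000000000000000000000007)) (TN.leaf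 (nat_lit 0x20000000100000001000000010000000000000001000000000000000000000001000000010000000100000001000000010000000100000017))) (TN.node (TN.leaf (nat_lit 0x200000000000000000000000000000000000000000000000000000000000000000000000000000000000000000000000000000000000000000000000000000000000000000000000000000000000000000000000100000001000000000000000100000000000000070000000f)) (TN.leaf (nat_lit 0x700000007000000070000000000000000000000000000000000000001000000010000000100000001000000010000000000000006000000070000000700000000000000000000000000000001000000000000000700000006000000000000000700000007000000070000001f)))))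
def D_t3 : TN := (TN.node D_t1 D_t2)
def D_t4 : TN := (TN.node (TN.node (TN.node (TN.node (TN.leaf (nat_lit 0x200000000000000000000000000000002)) (TN.leaf (nat_lit 0x1000000000000000000000000000000000000000000000000000000000000000000000000))) (TN.leaf (nat_lit 0x2000000000000000000000000000000000000000000000000000000070000000000000000000000000000000000000012))) (TN.node (TN.leaf (nat_lit 0x600000000000000000000000000000000000000000000000000000000000000000000000000000000000000000000000a)) (TN.leaf (nat_lit 0x10000000000000000000000000000000700000000000000000000000000000000000000010000000000000000000000010000000000000001000000000000001a)))) (TN.node (TN.node (TN.leaf (nat_lit 0x100000000000000000000000000000000000000000000000000000000000000000000000000000000000000000000000000000006)) (TN.leaf (nat_lit 0x600000000000000010000000000000000000000000000000000000000000000000000000000000007000000000000000000000007000000060000000000000000000000000000000000000016))) (TN.node (TN.leaf (nat_lit 0x20000000000000000000000000000000000000000000000000000000000000000000000000000000000000000000000000000000000000000000000000000000000000000000000000000000000000000000000010000000000000000000000010000000e))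 (TN.leaf (nat_lit 0x70000000000000000000000000000000000000001000000000000000100000001000000010000000000000000000000000000000000000000000000000000000000000000000000010000000000000007000000010000000000000001000000000000001e)))))
def D_t5 : TN := (TN.node (TN.node (TN.node (TN.leaf (nat_lit 0x20000000000000000000000000000000000000000000000000000000000000000000000000000000000000000000000000000000000000000000000000000000000000000000000000000000000000000000000000000000000000007000000000000000100000004)) (TN.leaf (nat_lit 0x60000000000000001000000000000000000000000000000000000000000000000000000070000000000000000000000000000000000000000000000000000000000000000000000000000000700000014))) (TN.node (TN.leaf (nat_lit 0x600000000000000000000000000000000000000000000000000000000000000000000000c)) (TN.leaf (nat_lit 0x70000000000000002000000000000000100000000000000010000000100000001000000000000000700000000000000000000000000000000000000010000000000000001000000020000000100000003000000030000000200000002000000000000001c))))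 (TN.node (TN.node (TN.leaf (nat_lit 0x60000000000000000000000000000000000000000000000000000000000000000000000000000000000000008)) (TN.leaf (nat_lit 0x200000001000000000000000000000000000000000000000000000000000000000000000000000000000000010000000100000001000000020000000200000000000000000000000000000018))) (TN.node (TN.leaf (nat_lit 0x200000000000000000000000000000000000000070000000000000010)) (TN.leaf (nat_lit 0x7000000000000000000000000000000000000000000000000000000060000000000000001000000000000000000000000000000010000000000000007000000000000000000000000000000010000000100000000000000000000000200000000000000010000000000000020)))))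
def D_t6 : TN := (TN.node D_t4 D_t5)
def D_t : TN := (TN.node D_t3 D_t6)
noncomputable def D (i : ℕ) : ℕ := TN.get D_t i
def La_t1 : TN := (TN.node (TN.node (TN.node (TN.node (TN.leaf (nat_lit 0x2000402000200000000060006000406020102000500000000000000000002000000)) (TN.leaf (nat_lit 0x50406040000000002010000040500070304050506000000000000060507000000))) (TN.leaf (nat_lit 0x20004000000000004020000000200060700020204000000000000040206000000))) (TN.node (TN.node (TN.leaf (nat_lit 0x60000000000000004040000000404040405040404000000000000000404000000)) (TN.leaf (nat_lit 0x5060406060000000006060005000605050402050202000000000000060007000000))) (TN.leaf (nat_lit 0x4070004000000000002020004000602020206060606000000000000040202000000)))) (TN.node (TN.node (TN.node (TN.leaf (nat_lit 0)) (TN.leaf (nat_lit 0))) (TN.leaf (nat_lit 0))) (TN.node (TN.node (TN.leaf (nat_lit 0)) (TN.leaf (nat_lit 0))) (TN.leaf (nat_lit 0)))))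
def La_t2 : TN := (TN.node (TN.node (TN.node (TN.node (TN.leaf (nat_lit 0)) (TN.leaf (nat_lit 0))) (TN.leaf (nat_lit 0))) (TN.node (TN.node (TN.leaf (nat_lit 0)) (TN.leaf (nat_lit 0))) (TN.leaf (nat_lit 0)))) (TN.node (TN.node (TN.node (TN.leaf (nat_lit 0)) (TN.leaf (nat_lit 0))) (TN.leaf (nat_lit 0))) (TN.node (TN.node (TN.leaf (nat_lit 0)) (TN.leaf (nat_lit 0))) (TN.leaf (nat_lit 0)))))
def La_t3 : TN := (TN.node La_t1 La_t2)
def La_t4 : TN := (TN.node (TN.node (TN.node (TN.node (TN.leaf (nat_lit 0)) (TN.leaf (nat_lit 0))) (TN.leaf (nat_lit 0))) (TN.node (TN.node (TN.leaf (nat_lit 0)) (TN.leaf (nat_lit 0x7070601050700000005040005020603070007030703000000000000020700000000))) (TN.leaf (nat_lit 0)))) (TN.node (TN.node (TN.node (TN.leaf (nat_lit 0)) (TN.leaf (nat_lit 0))) (TN.leaf (nat_lit 0))) (TN.node (TN.node (TN.leaf (nat_lit 0)) (TN.leaf (nat_lit 0))) (TN.leaf (nat_lit 0)))))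
def La_t5 : TN := (TN.node (TN.node (TN.node (TN.node (TN.leaf (nat_lit 0)) (TN.leaf (nat_lit 0))) (TN.leaf (nat_lit 0))) (TN.node (TN.node (TN.leaf (nat_lit 0)) (TN.leaf (nat_lit 0))) (TN.leaf (nat_lit 0)))) (TN.node (TN.node (TN.node (TN.leaf (nat_lit 0)) (TN.leaf (nat_lit 0))) (TN.leaf (nat_lit 0))) (TN.node (TN.node (TN.leaf (nat_lit 0)) (TN.leaf (nat_lit 0))) (TN.leaf (nat_lit 0)))))
def La_t6 : TN := (TN.node La_t4 La_t5)
def La_t7 : TN := (TN.node La_t3 La_t6)
def La_t8 : TN := (TN.node (TN.node (TN.node (TN.node (TN.leaf (nat_lit 0)) (TN.leaf (nat_lit 0x70000000000))) (TN.leaf (nat_lit 0x2000600000000060000020006060002010204070400000000000000020003000000))) (TN.node (TN.node (TN.leaf (nat_lit 0)) (TN.leaf (nat_lit 0x30402060000000004070000000404070404030004000000000000020301000000))) (TN.leaf (nat_lit 0x7000000000000000000000000000000000000000000000000000000000000000000)))) (TN.node (TN.node (TN.node (TN.leaf (nat_lit 0)) (TN.leaf (nat_lit 0))) (TN.leaf (nat_lit 0))) (TN.node (TN.node (TN.leaf (nat_lit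 0)) (TN.leaf (nat_lit 0))) (TN.leaf (nat_lit 0)))))
def La_t9 : TN := (TN.node (TN.node (TN.node (TN.node (TN.leaf (nat_lit 0)) (TN.leaf (nat_lit 0))) (TN.leaf (nat_lit 0))) (TN.node (TN.node (TN.leaf (nat_lit 0)) (TN.leaf (nat_lit 0))) (TN.leaf (nat_lit 0)))) (TN.node (TN.node (TN.node (TN.leaf (nat_lit 0)) (TN.leaf (nat_lit 0))) (TN.leaf (nat_lit 0))) (TN.node (TN.node (TN.leaf (nat_lit 0)) (TN.leaf (nat_lit 0))) (TN.leaf (nat_lit 0)))))
def La_t10 : TN := (TN.node La_t8 La_t9)
def La_t11 : TN := (TN.node (TN.node (TN.node (TN.node (TN.leaf (nat_lit 0)) (TN.leaf (nat_lit 0))) (TN.leaf (nat_lit 0))) (TN.node (TN.node (TN.leaf (nat_lit 0)) (TN.leaf (nat_lit 0))) (TN.leaf (nat_lit 0)))) (TN.node (TN.node (TN.node (TN.leaf (nat_lit 0)) (TN.leaf (nat_lit 0))) (TN.leaf (nat_lit 0))) (TN.node (TN.node (TN.leaf (nat_lit 0)) (TN.leaf (nat_lit 0))) (TN.leaf (nat_lit 0)))))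
def La_t12 : TN := (TN.node (TN.node (TN.node (TN.node (TN.leaf (nat_lit 0)) (TN.leaf (nat_lit 0))) (TN.leaf (nat_lit 0))) (TN.node (TN.node (TN.leaf (nat_lit 0)) (TN.leaf (nat_lit 0))) (TN.leaf (nat_lit 0)))) (TN.node (TN.node (TN.node (TN.leaf (nat_lit 0)) (TN.leaf (nat_lit 0))) (TN.leaf (nat_lit 0))) (TN.node (TN.node (TN.leaf (nat_lit 0)) (TN.leaf (nat_lit 0))) (TN.leaf (nat_lit 0)))))
def La_t13 : TN := (TN.node La_t11 La_t12)
def La_t14 : TN := (TN.node La_t10 La_t13)
def La_t15 : TN := (TN.node La_t7 La_t14)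
def La_t16 : TN := (TN.node (TN.node (TN.node (TN.node (TN.leaf (nat_lit 0)) (TN.leaf (nat_lit 0x3070000040000000006030003070507040002000602000000000000000500000000))) (TN.leaf (nat_lit 0x6060000000000000004060006060206010004000404000000000000000200000000))) (TN.node (TN.node (TN.leaf (nat_lit 0x4040402000600020000020004020004020704020100000000000000020401000000)) (TN.leaf (nat_lit 0x3020402020000000002020003000202030406030606000000000000020001000000))) (TN.leaf (nat_lit 0x700000000)))) (TN.node (TN.node (TN.node (TN.leaf (nat_lit 0)) (TN.leaf (nat_lit 0))) (TN.leaf (nat_lit 0))) (TN.node (TN.node (TN.leaf (nat_lit 0)) (TN.leaf (nat_lit 0))) (TN.leaf (nat_lit 0)))))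
def La_t17 : TN := (TN.node (TN.node (TN.node (TN.node (TN.leaf (nat_lit 0)) (TN.leaf (nat_lit 0))) (TN.leaf (nat_lit 0))) (TN.node (TN.node (TN.leaf (nat_lit 0)) (TN.leaf (nat_lit 0))) (TN.leaf (nat_lit 0)))) (TN.node (TN.node (TN.node (TN.leaf (nat_lit 0)) (TN.leaf (nat_lit 0))) (TN.leaf (nat_lit 0))) (TN.node (TN.node (TN.leaf (nat_lit 0)) (TN.leaf (nat_lit 0))) (TN.leaf (nat_lit 0)))))
def La_t18 : TN := (TN.node La_t16 La_t17)
def La_t19 : TN := (TN.node (TN.node (TN.node (TN.node (TN.leaf (nat_lit 0)) (TN.leaf (nat_lit 0))) (TN.leaf (nat_lit 0))) (TN.node (TN.node (TN.leaf (nat_lit 0)) (TN.leaf (nat_lit 0x3070502010107050001030007050407060000040507000000000000040504000000))) (TN.leaf (nat_lit 0)))) (TN.node (TN.node (TN.node (TN.leaf (nat_lit 0)) (TN.leaf (nat_lit 0))) (TN.leaf (nat_lit 0))) (TN.node (TN.node (TN.leaf (nat_lit 0)) (TN.leaf (nat_lit 0))) (TN.leaf (nat_lit 0)))))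
def La_t20 : TN := (TN.node (TN.node (TN.node (TN.node (TN.leaf (nat_lit 0)) (TN.leaf (nat_lit 0))) (TN.leaf (nat_lit 0))) (TN.node (TN.node (TN.leaf (nat_lit 0)) (TN.leaf (nat_lit 0))) (TN.leaf (nat_lit 0)))) (TN.node (TN.node (TN.node (TN.leaf (nat_lit 0)) (TN.leaf (nat_lit 0))) (TN.leaf (nat_lit 0))) (TN.node (TN.node (TN.leaf (nat_lit 0)) (TN.leaf (nat_lit 0))) (TN.leaf (nat_lit 0)))))
def La_t21 : TN := (TN.node La_t19 La_t20)
def La_t22 : TN := (TN.node La_t18 La_t21)
def La_t23 : TN := (TN.node (TN.node (TN.node (TN.node (TN.leaf (nat_lit 0)) (TN.leaf (nat_lit 0))) (TN.leaf (nat_lit 0))) (TN.node (TN.node (TN.leaf (nat_lit 0)) (TN.leaf (nat_lit 0x3030705050000010005020005030306040105060103000000000000040203000000))) (TN.leaf (nat_lit 0)))) (TN.node (TN.node (TN.node (TN.leaf (nat_lit 0)) (TN.leaf (nat_lit 0))) (TN.leaf (nat_lit 0))) (TN.node (TN.node (TN.leaf (nat_lit 0)) (TN.leaf (nat_lit 0))) (TN.leaf (nat_lit 0)))))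
def La_t24 : TN := (TN.node (TN.node (TN.node (TN.node (TN.leaf (nat_lit 0)) (TN.leaf (nat_lit 0))) (TN.leaf (nat_lit 0))) (TN.node (TN.node (TN.leaf (nat_lit 0)) (TN.leaf (nat_lit 0))) (TN.leaf (nat_lit 0)))) (TN.node (TN.node (TN.node (TN.leaf (nat_lit 0)) (TN.leaf (nat_lit 0))) (TN.leaf (nat_lit 0))) (TN.node (TN.node (TN.leaf (nat_lit 0)) (TN.leaf (nat_lit 0))) (TN.leaf (nat_lit 0)))))
def La_t25 : TN := (TN.node La_t23 La_t24)
def La_t26 : TN := (TN.node (TN.node (TN.node (TN.node (TN.leaf (nat_lit 0)) (TN.leaf (nat_lit 0))) (TN.leaf (nat_lit 0))) (TN.node (TN.node (TN.leaf (nat_lit 0)) (TN.leaf (nat_lit 0))) (TN.leaf (nat_lit 0)))) (TN.node (TN.node (TN.node (TN.leaf (nat_lit 0)) (TN.leaf (nat_lit 0))) (TN.leaf (nat_lit 0))) (TN.node (TN.node (TN.leaf (nat_lit 0)) (TN.leaf (nat_lit 0))) (TN.leaf (nat_lit 0)))))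
def La_t27 : TN := (TN.node (TN.node (TN.node (TN.node (TN.leaf (nat_lit 0)) (TN.leaf (nat_lit 0))) (TN.leaf (nat_lit 0))) (TN.node (TN.node (TN.leaf (nat_lit 0)) (TN.leaf (nat_lit 0))) (TN.leaf (nat_lit 0)))) (TN.node (TN.node (TN.node (TN.leaf (nat_lit 0)) (TN.leaf (nat_lit 0))) (TN.leaf (nat_lit 0))) (TN.node (TN.node (TN.leaf (nat_lit 0)) (TN.leaf (nat_lit 0))) (TN.leaf (nat_lit 0)))))
def La_t28 : TN := (TN.node La_t26 La_t27)
def La_t29 : TN := (TN.node La_t25 La_t28)
def La_t30 : TN := (TN.node La_t22 La_t29)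
def La_t : TN := (TN.node La_t15 La_t30)
noncomputable def La (i : ℕ) : ℕ := TN.get La_t i
def Le_t : TN := (TN.node (TN.leaf (nat_lit 0x604020000000306030505000101000302010700000300000001070302000000)) (TN.leaf (nat_lit 0x6000000000607050204040701030501030305000600000002040507000000)))
noncomputable def Le (i : ℕ) : ℕ := TN.get Le_t i
def C_t1 : TN := (TN.node (TN.node (TN.node (TN.node (TN.leaf (nat_lit 0)) (TN.leaf (nat_lit 0))) (TN.node (TN.leaf (nat_lit 0)) (TN.leaf (nat_lit 0)))) (TN.node (TN.node (TN.leaf (nat_lit 0)) (TN.leaf (nat_lit 0))) (TN.node (TN.leaf (nat_lit 0)) (TN.leaf (nat_lit 0))))) (TN.node (TN.node (TN.node (TN.leaf (nat_lit 0x7000000000000000500000000000000050000000500000000000000000000000000000000000000000000000000000000000000000000000000000000000000000000000000000000000000000000000000000000000000000000000000000000)) (TN.leaf (nat_lit 0))) (TN.node (TN.leaf (nat_lit 0)) (TN.leaf (nat_lit 0)))) (TN.node (TN.node (TN.leaf (nat_lit 0)) (TN.leaf (nat_lit 0))) (TN.node (TN.leaf (nat_lit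 0)) (TN.leaf (nat_lit 0))))))
def C_t2 : TN := (TN.node (TN.node (TN.node (TN.node (TN.leaf (nat_lit 0x6000000000000000200000000000000020000000200000000000000000000000000000000000000000000000000000000000000000000000100000000000000000000000000000000000000000000000000000000000000000000000000000000)) (TN.leaf (nat_lit 0))) (TN.node (TN.leaf (nat_lit 0)) (TN.leaf (nat_lit 0)))) (TN.node (TN.node (TN.leaf (nat_lit 0)) (TN.leaf (nat_lit 0))) (TN.node (TN.leaf (nat_lit 0)) (TN.leaf (nat_lit 0))))) (TN.node (TN.node (TN.node (TN.leaf (nat_lit 0x6000000050000000700000000000000000000000700000000000000000000000000000000000000060000000000000000000000000000000000000000000000000000000000000000000000000000000000000000000000000000000200000000)) (TN.leaf (nat_lit 0))) (TN.node (TN.leaf (nat_lit 0)) (TN.leaf (nat_lit 0)))) (TN.node (TN.node (TN.leaf (nat_lit 0)) (TN.leaf (nat_lit 0))) (TN.node (TN.leaf (nat_lit 0)) (TN.leaf (nat_lit 0))))))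
def C_t3 : TN := (TN.node C_t1 C_t2)
def C_t4 : TN := (TN.node (TN.node (TN.node (TN.node (TN.leaf (nat_lit 0x600000000000000020000000600000000000000000000000000000007000000030000000000000000000000000000000700000000000000000000000000000000000000000000000000000000000000000000000600000000)) (TN.leaf (nat_lit 0))) (TN.node (TN.leaf (nat_lit 0)) (TN.leaf (nat_lit 0)))) (TN.node (TN.node (TN.leaf (nat_lit 0)) (TN.leaf (nat_lit 0))) (TN.node (TN.leaf (nat_lit 0)) (TN.leaf (nat_lit 0))))) (TN.node (TN.node (TN.node (TN.leaf (nat_lit 0x5000000000000000000000000000000060000000000000000000000000000000000000000000000070000000000000000000000000000000000000000000000000000000000000000000000000000000000000000000000000000000100000000)) (TN.leaf (nat_lit 0))) (TN.node (TN.leaf (nat_lit 0)) (TN.leaf (nat_lit 0)))) (TN.node (TN.node (TN.leaf (nat_lit 0)) (TN.leaf (nat_lit 0))) (TN.node (TN.leaf (nat_lit 0)) (TN.leaf (nat_lit 0))))))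
def C_t5 : TN := (TN.node (TN.node (TN.node (TN.node (TN.leaf (nat_lit 0x2000000000000000000000000000000040000000000000000000000000000000000000001000000060000000000000000000000000000000000000000000000000000000000000000000000000000000000000000000000000000000200000000)) (TN.leaf (nat_lit 0))) (TN.node (TN.leaf (nat_lit 0)) (TN.leaf (nat_lit 0)))) (TN.node (TN.node (TN.leaf (nat_lit 0)) (TN.leaf (nat_lit 0))) (TN.node (TN.leaf (nat_lit 0)) (TN.leaf (nat_lit 0))))) (TN.node (TN.node (TN.node (TN.leaf (nat_lit 0)) (TN.leaf (nat_lit 0))) (TN.node (TN.leaf (nat_lit 0)) (TN.leaf (nat_lit 0)))) (TN.node (TN.node (TN.leaf (nat_lit 0)) (TN.leaf (nat_lit 0))) (TN.node (TN.leaf (nat_lit 0)) (TN.leaf (nat_lit 0))))))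
def C_t6 : TN := (TN.node C_t4 C_t5)
def C_t : TN := (TN.node C_t3 C_t6)
noncomputable def C (i : ℕ) : ℕ := TN.get C_t i
def e (i : ℕ) : ℕ := Nat.land (Nat.shiftRight (nat_lit 10) (Nat.mul (nat_lit 2) i)) (nat_lit 3)
def U_t : TL := (TL.node (TL.node (TL.node (TL.node (TL.node (TL.leaf [nat_lit 1]) (TL.leaf [nat_lit 1])) (TL.node (TL.leaf [nat_lit 1]) (TL.leaf [nat_lit 7]))) (TL.node (TL.node (TL.leaf [nat_lit 4]) (TL.leaf [nat_lit 5])) (TL.node (TL.leaf [nat_lit 3]) (TL.leaf [nat_lit 7])))) (TL.node (TL.node (TL.node (TL.leaf [nat_lit 2]) (TL.leaf [nat_lit 6])) (TL.node (TL.leaf [nat_lit 2]) (TL.leaf [nat_lit 7]))) (TL.node (TL.node (TL.leaf [nat_lit 1]) (TL.leaf [nat_lit 4])) (TL.node (TL.leaf [nat_lit 7]) (TL.leaf [nat_lit 7]))))) (TL.node (TL.node (TL.node (TL.node (TL.leaf [nat_lit 1]) (TL.leaf [nat_lit 2])) (TL.node (TL.leaf [nat_lit 2]) (TL.leaf [nat_lit 7]))) (TL.node (TL.node (TL.leaf [nat_lit 5]) (TL.leaf [nat_lit 4])) (TL.node (TL.leaf [nat_lit 7]) (TL.leaf [nat_lit 7])))) (TL.node (TL.node (TL.node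 (TL.leaf [nat_lit 7]) (TL.leaf [nat_lit 5])) (TL.node (TL.leaf [nat_lit 3]) (TL.leaf [nat_lit 7]))) (TL.node (TL.node (TL.leaf [nat_lit 1]) (TL.leaf [nat_lit 4])) (TL.node (TL.leaf [nat_lit 1]) (TL.leaf [nat_lit 7]))))))
noncomputable def U (i : ℕ) : List ℕ := TL.get U_t i
def V1_t : TL := (TL.node (TL.node (TL.node (TL.node (TL.node (TL.leaf [nat_lit 2, nat_lit 2]) (TL.leaf [nat_lit 5, nat_lit 5])) (TL.node (TL.leaf [nat_lit 1, nat_lit 6]) (TL.leaf [nat_lit 2, nat_lit 6]))) (TL.node (TL.node (TL.leaf [nat_lit 4, nat_lit 4]) (TL.leaf [nat_lit 6, nat_lit 6])) (TL.node (TL.leaf [nat_lit 3, nat_lit 6]) (TL.leaf [nat_lit 6, nat_lit 6])))) (TL.node (TL.node (TL.node (TL.leaf [nat_lit 3, nat_lit 3]) (TL.leaf [nat_lit 6, nat_lit 6])) (TL.node (TL.leaf [nat_lit 2, nat_lit 6]) (TL.leaf [nat_lit 4, nat_lit 4]))) (TL.node (TL.node (TL.leaf [nat_lit 1, nat_lit 4]) (TL.leaf [nat_lit 5, nat_lit 5])) (TL.node (TL.leaf [nat_lit 1, nat_lit 1]) (TL.leaf [nat_lit 4, nat_lit 5]))))) (TL.node (TL.node (TL.node (TL.node (TL.leaf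 [nat_lit 3, nat_lit 3]) (TL.leaf [nat_lit 5, nat_lit 5])) (TL.node (TL.leaf [nat_lit 2, nat_lit 5]) (TL.leaf [nat_lit 2, nat_lit 5]))) (TL.node (TL.node (TL.leaf [nat_lit 5, nat_lit 5]) (TL.leaf [nat_lit 4, nat_lit 6])) (TL.node (TL.leaf [nat_lit 3, nat_lit 3]) (TL.leaf [nat_lit 4, nat_lit 6])))) (TL.node (TL.node (TL.node (TL.leaf [nat_lit 2, nat_lit 2]) (TL.leaf [nat_lit 5, nat_lit 6])) (TL.node (TL.leaf [nat_lit 3, nat_lit 4]) (TL.leaf [nat_lit 5, nat_lit 5]))) (TL.node (TL.node (TL.leaf [nat_lit 1, nat_lit 5]) (TL.leaf [nat_lit 6, nat_lit 6])) (TL.node (TL.leaf [nat_lit 4, nat_lit 4]) (TL.leaf [nat_lit 5, nat_lit 6]))))))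
noncomputable def V1 (i : ℕ) : List ℕ := TL.get V1_t i
def V2_t : TL := (TL.node (TL.node (TL.node (TL.node (TL.node (TL.leaf []) (TL.leaf [nat_lit 3])) (TL.node (TL.leaf [nat_lit 6, nat_lit 1]) (TL.leaf [nat_lit 6, nat_lit 2]))) (TL.node (TL.node (TL.leaf [nat_lit 2]) (TL.leaf [nat_lit 2, nat_lit 1])) (TL.node (TL.leaf [nat_lit 6, nat_lit 3]) (TL.leaf [nat_lit 2, nat_lit 1])))) (TL.node (TL.node (TL.node (TL.leaf []) (TL.leaf [nat_lit 2, nat_lit 1])) (TL.node (TL.leaf [nat_lit 6, nat_lit 2]) (TL.leaf [nat_lit 2]))) (TL.node (TL.node (TL.leaf [nat_lit 4, nat_lit 1]) (TL.leaf [nat_lit 3])) (TL.node (TL.leaf []) (TL.leaf [nat_lit 5, nat_lit 4, nat_lit 3, nat_lit 2, nat_lit 1]))))) (TL.node (TL.node (TL.node (TL.node (TL.leaf []) (TL.leaf [nat_lit 3])) (TL.node (TL.leaf [nat_lit 5, nat_lit 2]) (TL.leaf [nat_lit 5, nat_lit 2]))) (TL.node (TL.node (TL.leaf [nat_lit 3]) (TL.leaf [nat_lit 6, nat_lit 4, nat_lit 3])) (TL.node (TL.leaf []) (TL.leaf [nat_lit 6, nat_lit 4, nat_lit 3])))) (TL.node (TL.node (TL.node (TL.leaf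 []) (TL.leaf [nat_lit 6, nat_lit 5, nat_lit 1])) (TL.node (TL.leaf [nat_lit 4, nat_lit 3]) (TL.leaf [nat_lit 3]))) (TL.node (TL.node (TL.leaf [nat_lit 5, nat_lit 1]) (TL.leaf [nat_lit 2, nat_lit 1])) (TL.node (TL.leaf [nat_lit 2]) (TL.leaf [nat_lit 6, nat_lit 5, nat_lit 1]))))))
noncomputable def V2 (i : ℕ) : List ℕ := TL.get V2_t i
def Y_t : TL := (TL.node (TL.node (TL.node (TL.leaf [nat_lit 3, nat_lit 2]) (TL.leaf [nat_lit 6])) (TL.leaf [nat_lit 1])) (TL.node (TL.node (TL.leaf [nat_lit 2, nat_lit 1]) (TL.leaf [nat_lit 6, nat_lit 4, nat_lit 3])) (TL.leaf [nat_lit 6, nat_lit 5, nat_lit 3])))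
noncomputable def Y (i : ℕ) : List ℕ := TL.get Y_t i
def O_t : TL := (TL.node (TL.node (TL.node (TL.leaf [nat_lit 0]) (TL.leaf [nat_lit 0, nat_lit 48, nat_lit 9, nat_lit 52, nat_lit 6, nat_lit 22, nat_lit 42, nat_lit 20, nat_lit 61, nat_lit 54, nat_lit 10, nat_lit 63, nat_lit 1, nat_lit 45, nat_lit 53, nat_lit 14])) (TL.leaf [nat_lit 0, nat_lit 48, nat_lit 9, nat_lit 22])) (TL.node (TL.node (TL.leaf [nat_lit 0, nat_lit 48]) (TL.leaf [nat_lit 0, nat_lit 48, nat_lit 9, nat_lit 52, nat_lit 6, nat_lit 29, nat_lit 22, nat_lit 42, nat_lit 20, nat_lit 38, nat_lit 61, nat_lit 54, nat_lit 56, nat_lit 10, nat_lit 57, nat_lit 34, nat_lit 47, nat_lit 63, nat_lit 1, nat_lit 33, nat_lit 45, nat_lit 5, nat_lit 24, nat_lit 50, nat_lit 53, nat_lit 35, nat_lit 23, nat_lit 16, nat_lit 14, nat_lit 8, nat_lit 62, nat_lit 59])) (TL.leaf [nat_lit 0, nat_lit 48, nat_lit 9, nat_lit 52, nat_lit 22, nat_lit 42, nat_lit 61, nat_lit 63])))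
noncomputable def O (i : ℕ) : List ℕ := TL.get O_t i
noncomputable def f1 : ℕ → ℕ := rvE Q B (nat_lit 14) Ru
noncomputable def f2 (j : ℕ) : ℕ := rlE I Ru (nat_lit 28) (nat_lit 8) (U j) (V1 j) (V2 j) (D j)
noncomputable def f3 : ℕ → ℕ := tgR I Ru (nat_lit 28) (nat_lit 2) (nat_lit 8) C D (nat_lit 34) La
noncomputable def f4 : ℕ → ℕ := chE Q B (nat_lit 65) (nat_lit 14) (nat_lit 6) (nat_lit 8) Y O
theorem ra0 : Nat.beq (rng f1 (nat_lit 0) (nat_lit 28)) (nat_lit 0) = true := by decide +kernel
theorem rb0 : Nat.beq (rng f2 (nat_lit 0) (nat_lit 32)) (nat_lit 0) = true := by decide +kernel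
theorem rc0 : Nat.beq (rng f3 (nat_lit 0) (nat_lit 6)) (nat_lit 0) = true := by decide +kernel
theorem rd0 : Nat.beq (rng f4 (nat_lit 0) (nat_lit 6)) (nat_lit 0) = true := by decide +kernel
theorem h1 : ∀ i < 28, f1 i = 0 := by
  have h := zero_lt_zero f1
  have h := zero_lt_add (a := (nat_lit 0)) (n := (nat_lit 28)) (b := (nat_lit 28)) h ra0 rfl
  exact h
theorem h2 : ∀ i < 32, f2 i = 0 := by
  have h := zero_lt_zero f2
  have h := zero_lt_add (a := (nat_lit 0)) (n := (nat_lit 32)) (b := (nat_lit 32)) h rb0 rfl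
  exact h
theorem h3 : ∀ i < 6, f3 i = 0 := by
  have h := zero_lt_zero f3
  have h := zero_lt_add (a := (nat_lit 0)) (n := (nat_lit 6)) (b := (nat_lit 6)) h rc0 rfl
  exact h
theorem h4 : ∀ i < 6, f4 i = 0 := by
  have h := zero_lt_zero f4
  have h := zero_lt_add (a := (nat_lit 0)) (n := (nat_lit 6)) (b := (nat_lit 6)) h rd0 rfl
  exact h
theorem nok : NoK (Sz8.P) (2 ^ (2 + 1)) := fun _ _ _ _ h =>
  (md.rv (I := I) (K := 28) rfl ⟨rfl, by decide⟩ (upTo_beq (by decide +kernel)) h1).core h (by norm_num)
    (md.syl (by norm_num) rfl (by decide) h4) (by rw [Sz8.card]; decide) (n := 8) (s := 2) (e := e) (L := Le) (C := C)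
    ⟨rfl, by decide, rfl, by decide, by decide, rfl, by decide⟩ h2 (upTo_beq (by decide +kernel)) (upTo_beq (by decide +kernel)) h3

end Cfsg.Agent.Ct.Sz8s.S2
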