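import Cfsg.Agent.Lib.Cert.Sz8.M
import Cfsg.Agent.Lib.Cert.Sch6

set_option autoImplicit false
set_option maxRecDepth 100000

namespace Cfsg.Agent.Ct.Sz8s

open Cfsg.Agent.PC

open Cfsg.Agent.Fi Cfsg.Agent.Ct
def U_t : TL := (TL.node (TL.leaf [nat_lit 0, nat_lit 4, nat_lit 1]) (TL.leaf [nat_lit 0, nat_lit 4, nat_lit 1]))
noncomputable def U (i : ℕ) : List ℕ := TL.get U_t i
def V_t : TL := (TL.node (TL.leaf [nat_lit 3, nat_lit 1, nat_lit 1, nat_lit 4, nat_lit 0, nat_lit 0, nat_lit 3, nat_lit 4, nat_lit 2]) (TL.leaf [nat_lit 2, nat_lit 4, nat_lit 1, nat_lit 4, nat_lit 2, nat_lit 1, nat_lit 3, nat_lit 4]))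
noncomputable def V (i : ℕ) : List ℕ := TL.get V_t i
theorem uv : ∀ k < 2, lettE 5 (U k) = 0 ∧ lettE 5 (V k) = 0 ∧ ev Sz8.al (U k ++ V k) = ev Sz8.al (V k ++ U k) := fun k hk =>
  have t := (by decide +kernel : ∀ k < 2, lettE 5 (U k) = 0 ∧ lettE 5 (V k) = 0 ∧ eqE Sz8.T Sz8.B0 5 (U k ++ V k) (V k ++ U k) = 0) k hk
  ⟨t.1, t.2.1, (Sz8.md0).eq t.2.2⟩

end Cfsg.Agent.Ct.Sz8s
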